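import Cfsg.Agent.H704.S8.Defs_m3
import Cfsg.Agent.Characters.Core
import Cfsg.Prelude.Def_Blocks
import Cfsg.Agent.H621.SymDeg.Chars
import Cfsg.Agent.H417.BlockCount
import Cfsg.Agent.H704.SporCases_m3
import Cfsg.Agent.H713.Spor.McL
import Cfsg.Agent.Prune
set_option linter.all false

-- part: H999/DS/Lev
section
set_option linter.all false
open scoped Cfsg.Agent.FastGrp

/-!
# Degrees of `S_n` below a fixed bound (helper999)

`LB n K B` : the partitions of `n` with more than `K` boxes outside the first row and more than `K` boxes outside the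
first column have degree larger than `B`. It is checked by the kernel for one `n` and is inherited by all larger `n`
(`lb_of_le`). Then `not_isDeg` decides that `d ≤ B` is not a degree of `S_n` with the partitions `(n - k, μ)`, `|μ| ≤ K`.
-/

set_option autoImplicit false
set_option linter.unusedSectionVars false

namespace Cfsg.Agent.H999.DS

open Cfsg.Agent.H704 Finset

/-- lower bound off the thin partitions -/
def LB (n K B : ℕ) : Prop := ∀ (l : List ℕ) (d : ℕ), Dec l → l.sum = n → d * hookProd l = n.factorial →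
  l.headD 0 + K < n → colLen l 0 + K < n → B < d

theorem head_add_col_le {l : List ℕ} (hl : Dec l) (h : 0 < l.headD 0) : l.headD 0 + colLen l 0 ≤ l.sum + 1 := by
  obtain ⟨m, hm⟩ : ∃ m, l.headD 0 = m + 1 := ⟨l.headD 0 - 1, by omega⟩
  rw [sum_eq_sum_colLen hl, hm, sum_range_succ']
  have h1 : ∑ j ∈ range m, 1 ≤ ∑ j ∈ range m, colLen l (j + 1) := by
    apply sum_le_sum
    intro j hj
    rw [mem_range] at hj
    have : 0 < colLen l (j + 1) := by
      rw [lt_colLen_iff hl, ← headD_eq_getD]
      omega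
    exact this
  rw [sum_const, card_range, smul_eq_mul, mul_one] at h1
  omega

/-- the first row is long -/
theorem lb_row {n K B : ℕ} (hn : 2 * K + 2 < n) (ih : LB n K B) {l : List ℕ} {d : ℕ} (hl : Dec l) (hs : l.sum = n + 1)
    (hd : d * hookProd l = (n + 1).factorial) (hh : l.headD 0 + K = n) : B < d := by
  obtain ⟨h1, h2, h3⟩ := sum_facts hl (by omega)
  have h6 := head_add_col_le hl h3
  have hc0 : l.getD (0 + 1) 0 < l.getD 0 0 := by
    rw [← headD_eq_getD, zero_add]; omega
  have hlen0 : 0 < l.length := lt_length_of_getD hc0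
  obtain ⟨d1, -, hd1⟩ := exists_deg (dec_rm hl hc0) (n := n) (by have := sum_rm hc0; omega)
  have h4 := branch_one hl hs hc0 hd hd1
  have h7 := colLen_rm_le hl hc0 0
  have h5 := ih (rm l 0) d1 (dec_rm hl hc0) (by have := sum_rm hc0; omega) hd1 (by rw [headD_rm_zero hlen0]; omega)
    (by omega)
  omega

theorem lb_step {n K B : ℕ} (hn : 2 * K + 2 < n) (ih : LB n K B) : LB (n + 1) K B := by
  intro l d hl hs hd hh hc
  by_cases hA : l.headD 0 + K = n
  · exact lb_row hn ih hl hs hd hA
  by_cases hB : colLen l 0 + K = n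
  · refine lb_row hn ih (pairwise_transpose l) ((sum_transpose hl).trans hs) ?_ ?_ (l := transpose l)
    · rw [hookProd_transpose' hl, hd]
    · rw [headD_eq_getD, getD_transpose hl, hB]
  obtain ⟨h1, h2, h3⟩ := sum_facts hl (by omega)
  have hc1 := corner_last hl (by omega)
  obtain ⟨d1, -, hd1⟩ := exists_deg (dec_rm hl hc1) (n := n) (by have := sum_rm hc1; omega)
  have h4 := branch_one hl hs hc1 hd hd1
  have h7 := colLen_rm_le hl hc1 0
  have h8 := headD_rm_le (l := l) (lt_length_of_getD hc1)
  have h5 := ih (rm l (colLen l 0 - 1)) d1 (dec_rm hl hc1) (by have := sum_rm hc1; omega) hd1 (by omega) (by omega)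
  omega

theorem lb_of_le {n m K B : ℕ} (hn : 2 * K + 2 < n) (h : LB n K B) (hm : n ≤ m) : LB m K B := by
  induction m, hm using Nat.le_induction with
  | base => exact h
  | succ m hm ih => exact lb_step (by omega) ih

/-- the base case, by the kernel -/
theorem lb_base {n K B : ℕ} (h : go (fun l H => decide (n ≤ l.headD 0 + K) || decide (n ≤ l.length + K) ||
    Nat.blt (B * H) n.factorial) (n + 1) n 1 [] 1 = true) : LB n K B := by
  intro l d hl hs hd hh hc
  have h1 := check_of_isPart h (isPart_filter hl hs)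
  simp only [Bool.or_eq_true, decide_eq_true_eq] at h1
  rw [headD_filter_pos hl, length_filter_pos, hookProd_filter hl, Nat.blt_eq, ← hd] at h1
  rcases h1 with (h1 | h1) | h1
  · omega
  · omega
  · exact Nat.lt_of_mul_lt_mul_right h1

/-- the first part of the row product -/
def rowP (a b : ℕ) (μ : List ℕ) : ℕ := ((List.range b).map fun j => a - j + colLen μ j).prod

theorem rowHook_split {a : ℕ} {μ : List ℕ} (hμ : Dec μ) (h : μ.headD 0 ≤ a) :
    rowHook a μ = rowP a (μ.headD 0) μ * (a - μ.headD 0).factorial := by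
  obtain ⟨c, hc⟩ := Nat.exists_eq_add_of_le h
  rw [rowHook_eq]
  have h1 : rowP a (μ.headD 0) μ = ∏ j ∈ range (μ.headD 0), (a - j + colLen μ j) := rfl
  rw [h1, ← prod_range_sub' (a - μ.headD 0)]
  generalize hb : μ.headD 0 = b at *
  subst hc
  rw [prod_range_add, Nat.add_sub_cancel_left]
  congr 1
  apply prod_congr rfl
  intro j _
  have h2 : colLen μ (b + j) = 0 := by
    apply colLen_eq_zero
    intro x hx
    obtain ⟨i, hi, rfl⟩ := List.mem_iff_getElem.1 hx
    have h3 := getD_le_headD hμ i
    rw [List.getD_eq_getElem _ _ hi, hb] at h3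
    omega
  rw [h2]
  omega

/-- no partition `(n - k, μ)` with `|μ| = k ≤ K` has degree `d` -/
def levChk (K n d : ℕ) : Bool := (List.range (K + 1)).all fun k =>
  go (fun μ H => !(Nat.beq (d * (H * rowP (n - k) (μ.headD 0) μ)) (n.descFactorial (k + μ.headD 0)))) (k + 1) k 1 [] 1

theorem not_row {n K d : ℕ} (h2 : 2 * K ≤ n) (hn : 0 < n) (hchk : levChk K n d = true) {l : List ℕ} (hl : IsPart l n)
    (he : d * hookProd l = n.factorial) (h : n ≤ l.headD 0 + K) : False := by
  obtain ⟨hs, hp, hsum⟩ := hl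
  cases l with
  | nil => rw [List.sum_nil] at hsum; omega
  | cons a μ =>
    rw [List.headD_cons] at h
    rw [List.sum_cons] at hsum
    have hμ : IsPart μ μ.sum := ⟨hs.of_cons, fun x hx => hp x (List.mem_cons_of_mem _ hx), rfl⟩
    have hb : μ.headD 0 ≤ μ.sum := by
      cases μ with
      | nil => exact le_rfl
      | cons b μ => rw [List.headD_cons, List.sum_cons]; omega
    unfold levChk at hchk
    rw [List.all_eq_true] at hchk
    have h3 := check_of_isPart (hchk μ.sum (by rw [List.mem_range]; omega)) hμ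
    rw [Bool.not_eq_true', ← Bool.not_eq_true, Nat.beq_eq] at h3
    apply h3
    have h4 := rowHook_split hμ.sorted (a := a) (by omega)
    rw [hookProd, h4] at he
    have h5 : n - μ.sum = a := by omega
    rw [h5]
    have h6 : (n - (μ.sum + μ.headD 0)).factorial * n.descFactorial (μ.sum + μ.headD 0) = n.factorial :=
      Nat.factorial_mul_descFactorial (by omega)
    rw [show n - (μ.sum + μ.headD 0) = a - μ.headD 0 by omega, ← he] at h6
    have h7 := Nat.factorial_pos (a - μ.headD 0)
    apply Nat.eq_of_mul_eq_mul_left h7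
    rw [h6]
    ring

/-- `d` is not a degree of `S_n` -/
theorem not_isDeg {n K B d : ℕ} (hLB : LB n K B) (hd : d ≤ B) (h2 : 2 * K ≤ n) (hn : 0 < n) (hchk : levChk K n d = true) :
    ¬ IsDeg n d := by
  rintro ⟨l, hl, he⟩
  by_cases h1 : n ≤ l.headD 0 + K
  · exact not_row h2 hn hchk hl he h1
  by_cases h3 : n ≤ colLen l 0 + K
  · have h4 : (transpose l).headD 0 = colLen l 0 := by rw [headD_eq_getD, getD_transpose hl.sorted]
    exact not_row h2 hn hchk (isPart_transpose hl) (by rw [hookProd_transpose hl, he]) (by rw [h4]; exact h3)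
  have := hLB l d hl.sorted hl.sum he (by omega) (by omega)
  omega

theorem dvd_factorial {n d : ℕ} (h : IsDeg n d) : d ∣ n.factorial := by
  obtain ⟨l, _, he⟩ := h
  exact ⟨_, he.symm⟩

theorem le_of_prime {n d q : ℕ} (h : IsDeg n d) (hq : q.Prime) (hqd : q ∣ d) : q ≤ n :=
  (hq.dvd_factorial).1 (hqd.trans (dvd_factorial h))

/-- the base bound used for `23 ≤ n` -/
theorem lb23 : LB 23 5 67297 := lb_base (go_of_fast (by decide +kernel))

/-- the base bound used for `29 ≤ n` -/
theorem lb29 : LB 29 6 1085759 := lb_base (go_of_fast (by decide +kernel))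

/-- the range check -/
theorem range_chk {K a m d : ℕ} (h : ((List.range m).all fun i => levChk K (a + i) d) = true) {n : ℕ} (h1 : a ≤ n)
    (h2 : n < a + m) : levChk K n d = true := by
  rw [List.all_eq_true] at h
  have := h (n - a) (by rw [List.mem_range]; omega)
  rwa [show a + (n - a) = n by omega] at this

/-- the base bound used for `29 ≤ n` -/
theorem lb29' : LB 29 7 2731364 := lb_base (go_of_fast (by decide +kernel))

/-- two exact degrees: the first one leaves only `n = m₁ + 1`, which the second one excludes -/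
theorem kill {n m1 m2 a b q0 K B s : ℕ} (h1 : IsDeg n m1) (h2 : IsDeg n m2) (hna : a ≤ n) (h9 : 9 ≤ q0)
    (h0 : q0 ≤ a) (hLB : LB q0 K B) (hK : 2 * K + 2 < q0) (hB : m1 ≤ B) (hnb : n < b → n < a + s)
    (hchk : ((List.range s).all fun i => levChk K (a + i) m1) = true) (hM : 2 * m1 < b * (b - 3))
    (hm1 : 1 < m1) (hm2 : 1 < m2) (hne : m2 ≠ m1) (hlt : 2 * m2 < (m1 + 1) * (m1 - 2)) : False := by
  rcases low_degree (by omega) h1 with h | h | h
  · omega
  · have hn : n = m1 + 1 := by omega
    subst hn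
    rcases low_degree (by omega) h2 with h' | h' | h'
    · omega
    · omega
    · rw [show m1 + 1 - 3 = m1 - 2 by omega] at h'
      omega
  · by_cases hn : n < b
    · exact not_isDeg (lb_of_le hK hLB (by omega)) hB (by omega) (by omega) (range_chk hchk hna (hnb hn)) h1
    · have h5 : b * (b - 3) ≤ n * (n - 3) := Nat.mul_le_mul (by omega) (by omega)
      omega

end Cfsg.Agent.H999.DS
end

-- part: H999/DS/Tools
section
set_option linter.all false
open scoped Cfsg.Agent.FastGrp

-- part: H999/DS/Chk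
section
/-!
# The checks for Ru, Th, Ly, ON, J4 (helper999)
-/

set_option autoImplicit false
set_option maxRecDepth 100000

namespace Cfsg.Agent.H999.DS

open Cfsg.Agent.H704

noncomputable section

/-- evaluate a number first -/
def fN {α : Type} (n : ℕ) (k : ℕ → α) : α := @Nat.rec (fun _ => α) (k 0) (fun m _ => k m) (Nat.succ n)

theorem fN_eq {α : Type} (n : ℕ) (k : ℕ → α) : fN n k = k n := rfl

/-- evaluate the images of a list first -/
def fW {α : Type} (f : ℕ → ℕ) (v : List ℕ) : (List ℕ → α) → α :=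
  @List.rec ℕ (fun _ => (List ℕ → α) → α) (fun k => k []) (fun a _ ih k => fN (f a) fun x => ih fun u => k (x :: u)) v

theorem fW_eq {α : Type} (f : ℕ → ℕ) (v : List ℕ) (k : List ℕ → α) : fW f v k = k (v.map f) := by
  induction v generalizing k with
  | nil => rfl
  | cons a v ih => exact ih _

/-- the row product -/
def rwF (c : List ℕ) : ℕ → ℕ :=
  @List.rec ℕ (fun _ => ℕ → ℕ) (fun _ => 1) (fun c _ ih a => Nat.mul (Nat.add a c) (ih (Nat.sub a 1))) c

theorem rwF_eq (b : ℕ) (f : ℕ → ℕ) (a : ℕ) :
    rwF ((List.range b).map f) a = ((List.range b).map fun j => a - j + f j).prod := by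
  induction b generalizing f a with
  | zero => rfl
  | succ b ih =>
    rw [List.range_succ_eq_map, List.map_cons, List.map_cons, List.prod_cons, List.map_map, List.map_map]
    refine (congrArg (Nat.mul (a + f 0)) (ih _ _)).trans (congrArg (fun l : List ℕ => (a + f 0) * l.prod) ?_)
    exact List.map_congr_left fun j _ => congrArg (· + f (j + 1)) (by rw [Nat.sub_eq, Nat.sub_sub, Nat.add_comm])

/-- the descending factorial -/
def dfF (n t : ℕ) : ℕ := @Nat.rec (fun _ => ℕ) 1 (fun k ih => Nat.mul (Nat.sub n k) ih) t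

theorem dfF_eq (n t : ℕ) : dfF n t = n.descFactorial t := by
  induction t with
  | zero => rfl
  | succ t ih => exact congrArg (Nat.mul (n - t)) ih

/-- all numbers from `a` to `a + m - 1` -/
def alF (p : ℕ → Bool) (a m : ℕ) : Bool := @Nat.rec (fun _ => Bool) true (fun i ih => cond (fN (Nat.add a i) p) ih false) m

theorem alF_spec {p : ℕ → Bool} {a m : ℕ} (h : alF p a m = true) : ∀ i < m, p (a + i) = true := by
  induction m with
  | zero => exact fun i hi => absurd hi (Nat.not_lt_zero i)
  | succ m ih =>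
    have h1 : cond (p (a + m)) (alF p a m) false = true := h
    cases h2 : p (a + m) with
    | false => rw [h2] at h1; exact absurd h1 Bool.false_ne_true
    | true =>
      rw [h2] at h1
      exact fun i hi => (Nat.lt_succ_iff_lt_or_eq.1 hi).elim (ih h1 i) fun e => e ▸ h2

theorem go_mono {p q : List ℕ → ℕ → Bool} (h : ∀ l H, p l H = true → q l H = true) (f r b : ℕ) (l : List ℕ) (H : ℕ)
    (h1 : go p f r b l H = true) : go q f r b l H = true := by
  induction f generalizing r b l H with
  | zero => exact h1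
  | succ f ih =>
    have e : ∀ p : List ℕ → ℕ → Bool, go p (f + 1) r b l H = if r = 0 then p l H else if r < b then true else
      (List.range (r + 1 - b)).all fun i => go p f (r - (b + i)) (b + i) ((b + i) :: l) (rowHook (b + i) l * H) :=
      fun _ => rfl
    rw [e] at h1 ⊢
    split_ifs at h1 ⊢
    · exact h l H h1
    · rfl
    · exact List.all_eq_true.2 fun i hi => ih _ _ _ _ (List.all_eq_true.1 h1 i hi)

/-- the check of a range, the partitions first -/
def levF (K a m d : ℕ) : Bool := (List.range (K + 1)).all fun k =>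
  go (fun μ H => fN (d * H) fun e => fN (k + μ.headD 0) fun t => fW (colLen μ) (List.range (μ.headD 0)) fun c =>
    alF (fun n => !(Nat.beq (Nat.mul e (rwF c (Nat.sub n k))) (dfF n t))) a m) (k + 1) k 1 [] 1

theorem lev_of {K a m d : ℕ} (h : levF K a m d = true) : ((List.range m).all fun i => levChk K (a + i) d) = true :=
  List.all_eq_true.2 fun i hi => List.all_eq_true.2 fun k hk => go_mono (fun μ H h1 => by
    rw [fN_eq, fN_eq, fW_eq] at h1
    have h2 := alF_spec h1 i (List.mem_range.1 hi)
    rw [rwF_eq, dfF_eq, Nat.mul_eq, Nat.mul_assoc] at h2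
    exact h2) _ _ _ _ _ (List.all_eq_true.1 h k hk)

end

theorem no_ru {n : ℕ} (h1 : IsDeg n 783) (h2 : IsDeg n 3276) : False :=
  kill h1 h2 (a := 29) (s := 14) (b := 43) (le_of_prime h1 (by norm_num) (by norm_num)) (by norm_num) (by norm_num) lb23
    (by norm_num) (by norm_num) (fun h => h) (lev_of (by decide +kernel)) (by norm_num) (by norm_num) (by norm_num) (by norm_num)
    (by norm_num)

theorem no_th {n : ℕ} (h1 : IsDeg n 61256) (h2 : IsDeg n 30875) : False :=
  kill h1 h2 (a := 31) (s := 322) (b := 353) (le_of_prime h1 (by norm_num) (by norm_num)) (by norm_num) (by norm_num) lb23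
    (by norm_num) (by norm_num) (fun h => h) (lev_of (by decide +kernel)) (by norm_num) (by norm_num) (by norm_num) (by norm_num)
    (by norm_num)

theorem chk_on_a : ((List.range 226).all fun i => levChk 5 (31 + i) 32395) = true := lev_of (by decide +kernel)

theorem chk_on_b : ((List.range 332).all fun i => levChk 5 (31 + i) 64790) = true := lev_of (by decide +kernel)

theorem no_on_a {n : ℕ} (h1 : IsDeg n 32395) (h2 : IsDeg n 10944 ∨ IsDeg n 21888) : False := by
  rcases h2 with h2 | h2 <;>
  exact kill h1 h2 (a := 31) (s := 226) (b := 257) (le_of_prime h1 (by norm_num) (by norm_num)) (by norm_num) (by norm_num)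
    lb23 (by norm_num) (by norm_num) (fun h => h) chk_on_a (by norm_num) (by norm_num) (by norm_num) (by norm_num)
    (by norm_num)

theorem no_on_b {n : ℕ} (h1 : IsDeg n 64790) (h2 : IsDeg n 10944 ∨ IsDeg n 21888) : False := by
  rcases h2 with h2 | h2 <;>
  exact kill h1 h2 (a := 31) (s := 332) (b := 363) (le_of_prime h1 (by norm_num) (by norm_num)) (by norm_num) (by norm_num)
    lb23 (by norm_num) (by norm_num) (fun h => h) chk_on_b (by norm_num) (by norm_num) (by norm_num) (by norm_num)
    (by norm_num)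

theorem no_on {n : ℕ} (h1 : IsDeg n 32395 ∨ IsDeg n 64790) (h2 : IsDeg n 10944 ∨ IsDeg n 21888) : False := by
  rcases h1 with h1 | h1
  · exact no_on_a h1 h2
  · exact no_on_b h1 h2

theorem no_ly {n : ℕ} (h1 : IsDeg n 45694) (h2 : IsDeg n 1534500) : False := by
  have h67 := le_of_prime h1 (q := 67) (by norm_num) (by norm_num)
  by_cases hn : n = 67
  · subst hn
    exact not_isDeg (lb_of_le (by norm_num) lb29' (by norm_num)) (by norm_num) (by norm_num) (by norm_num)
      (by decide +kernel) h2
  exact kill h1 h2 (a := 68) (s := 240) (b := 308) (by omega) (by norm_num) (by norm_num) lb23 (by norm_num) (by norm_num)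
    (fun h => h) (lev_of (by decide +kernel)) (by norm_num) (by norm_num) (by norm_num) (by norm_num) (by norm_num)

theorem chk_j4 : ((List.range 1292).all fun i => levChk 6 (43 + i) 889111) = true := lev_of (by decide +kernel)

theorem no_j4 {n : ℕ} (h1 : IsDeg n 889111) (h2 : IsDeg n 1776888) : False := by
  have h43 := le_of_prime h1 (q := 43) (by norm_num) (by norm_num)
  by_cases hn : n = 1335
  · subst hn
    exact not_isDeg (lb_of_le (by norm_num) lb29' (by norm_num)) (by norm_num) (by norm_num) (by norm_num)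
      (by decide +kernel) h2
  exact kill h1 h2 (a := 43) (s := 1292) (b := 1336) (by omega) (by norm_num) (by norm_num) lb29 (by norm_num)
    (by norm_num) (fun h => by omega) chk_j4 (by norm_num) (by norm_num) (by norm_num) (by norm_num) (by norm_num)

end Cfsg.Agent.H999.DS
end

-- part: H999/DS/Tools
section
/-!
# Exact degrees and degrees of `S_n` (helper999)
-/

set_option autoImplicit false

namespace Cfsg.Agent.H999.DS

open Cfsg Cfsg.Agent.H704

universe u v

/-- an exact degree of `T` is a degree of `S_n` -/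
theorem isDeg_of_sub {K : Type u} [Group K] {T : Type v} [Group T] (e : K ≃* T) {n : ℕ}
    (hd : ∀ ψ : K → ℂ, IsIrrCharacter K ψ → ∃ d : ℕ, IsDeg n d ∧ ψ 1 = d) {χ : T → ℂ} (hχ : IsIrrCharacter T χ) {m : ℕ}
    (h1 : χ 1 = m) : IsDeg n m := by
  obtain ⟨d, h2, h3⟩ := hd (χ ∘ e.toMonoidHom) (Characters.Core.isIrr_comp e.toMonoidHom e.surjective hχ)
  rw [Function.comp_apply, map_one, h1] at h3
  have h4 : m = d := by exact_mod_cast h3
  rw [h4]
  exact h2

/-- an exact degree of `T` is a degree of `S_n`, up to a factor two -/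
theorem isDeg_of_degOK {K : Type u} [Group K] {T : Type v} [Group T] (e : K ≃* T) {n : ℕ}
    (hd : DegOK n K) {χ : T → ℂ} (hχ : IsIrrCharacter T χ) {m : ℕ}
    (h1 : χ 1 = m) : IsDeg n m ∨ IsDeg n (2 * m) := by
  obtain ⟨d, h2, h3⟩ := hd (χ ∘ e.toMonoidHom) (Characters.Core.isIrr_comp e.toMonoidHom e.surjective hχ)
  rw [Function.comp_apply, map_one, h1] at h3
  rcases h3 with h3 | h3
  · left
    have h4 : d = m := by exact_mod_cast h3
    rw [← h4]
    exact h2
  · right
    have h4 : d = 2 * m := by exact_mod_cast h3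
    rw [← h4]
    exact h2

/-- the value of a character from its degree as a natural number -/
theorem one_of_charDegree {T : Type v} [Group T] {χ : T → ℂ} (hχ : IsIrrCharacter T χ) {m : ℕ}
    (h : charDegree χ = m) : χ 1 = m := by
  obtain ⟨n, -, hn'⟩ := Characters.Core.isIrr_apply_one hχ
  have h1 : charDegree χ = n := by simp [charDegree, hn']
  rw [hn', ← h, h1]

end Cfsg.Agent.H999.DS
end

private theorem dce_c249f40e4cfd : _root_.True := by
  try have : _root_.True := by simp only [_root_.Cfsg.charDegree.eq_1]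
  exact _root_.True.intro
end

-- part: H704/DS/LBHigh
section
set_option linter.all false
open scoped Cfsg.Agent.FastGrp

-- part: H704/DS/LB
section
/-!
# Lower bounds for the degrees of `S_n`, first row and column at most `n - K` (helper704)
-/

set_option autoImplicit false
set_option linter.unusedSectionVars false

namespace Cfsg.Agent.H704.DS

open Finset Cfsg.Agent.H704

/-- `B` is a lower bound for `M` times the degrees of `S_n` with first row and column at most `n - K` -/
def LBs (M K n B : ℕ) : Prop := ∀ (l : List ℕ) (d : ℕ), Dec l → l.sum = n → d * hookProd l = n.factorial →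
  l.headD 0 ≤ n - K → colLen l 0 ≤ n - K → B ≤ M * d

theorem LBs.mono {M K n B B' : ℕ} (h : LBs M K n B) (hB : B' ≤ B) : LBs M K n B' :=
  fun l d h1 h2 h3 h4 h5 => hB.trans (h l d h1 h2 h3 h4 h5)

theorem LBs.of_le {M K K' n B : ℕ} (h : LBs M K n B) (hK : K ≤ K') : LBs M K' n B :=
  fun l d h1 h2 h3 h4 h5 => h l d h1 h2 h3 (by omega) (by omega)

theorem LBs.base (M K n : ℕ) : LBs M K n M := fun _ _ _ _ h3 _ _ => Nat.le_mul_of_pos_right _ (pos_of_deg h3)

theorem LBs.scale {M K n B : ℕ} (h : LBs M K n B) (c : ℕ) : LBs (c * M) K n (c * B) :=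
  fun l d h1 h2 h3 h4 h5 => by rw [mul_assoc]; exact Nat.mul_le_mul_left _ (h l d h1 h2 h3 h4 h5)

theorem head_add_col_le {l : List ℕ} (hl : Dec l) (h0 : 0 < l.headD 0) : l.headD 0 + colLen l 0 ≤ l.sum + 1 := by
  have h1 := sum_eq_sum_colLen hl
  obtain ⟨m, hm⟩ : ∃ m, l.headD 0 = m + 1 := ⟨l.headD 0 - 1, by omega⟩
  have h2 : ∑ j ∈ range (l.headD 0), colLen l j = ∑ j ∈ range m, colLen l (j + 1) + colLen l 0 := by
    rw [hm, sum_range_succ']
  have h3 : ∑ j ∈ range m, 1 ≤ ∑ j ∈ range m, colLen l (j + 1) := by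
    apply sum_le_sum
    intro j hj
    rw [mem_range] at hj
    have : 0 < colLen l (j + 1) := by
      rw [lt_colLen_iff hl, ← headD_eq_getD]; omega
    exact this
  rw [sum_const, card_range, smul_eq_mul, mul_one] at h3
  omega

theorem lb_head {M n K B B0 : ℕ} (hK : 1 ≤ K) (hn : 2 * K + 3 ≤ n) (ih : LBs M K n B) (ih0 : LBs M (K - 1) n B0)
    {l : List ℕ} {d : ℕ} (hl : Dec l) (hs : l.sum = n + 1) (hd : d * hookProd l = (n + 1).factorial)
    (hh : l.headD 0 = n + 1 - K) : B + B0 ≤ M * d := by
  obtain ⟨h1, h2, h3⟩ := sum_facts hl (by omega)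
  have hcol := head_add_col_le hl h3
  have hc0 : l.getD (0 + 1) 0 < l.getD 0 0 := by
    rw [← headD_eq_getD, zero_add]; omega
  have hc1 := corner_last hl (by omega)
  have hlen0 : 0 < l.length := lt_length_of_getD hc0
  obtain ⟨d1, -, hd1⟩ := exists_deg (dec_rm hl hc0) (n := n) (by have := sum_rm hc0; omega)
  obtain ⟨d2, hp2, hd2⟩ := exists_deg (dec_rm hl hc1) (n := n) (by have := sum_rm hc1; omega)
  have h4 := branch_two hl hs (i := 0) (k := colLen l 0 - 1) (by omega) hc0 hc1 hd hd1 hd2
  have h5 := ih (rm l 0) d1 (dec_rm hl hc0) (by have := sum_rm hc0; omega) hd1 (by rw [headD_rm_zero hlen0]; omega)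
    ((colLen_rm_le hl hc0 0).trans (by omega))
  have h6 := ih0 (rm l (colLen l 0 - 1)) d2 (dec_rm hl hc1) (by have := sum_rm hc1; omega) hd2
    (by rw [headD_rm_pos (lt_length_of_getD hc1) (by omega)]; (clear * - hK hh; omega)) ((colLen_rm_le hl hc1 0).trans (by (clear * - hK hn hs hh hcol; omega)))
  have h7 : M * d1 + M * d2 ≤ M * d := by rw [← mul_add]; exact Nat.mul_le_mul_left _ h4
  omega

theorem LBs.step {M n K B B0 B2 C : ℕ} (hK : 1 ≤ K) (hn : 2 * K + 3 ≤ n) (ih1 : LBs M K n B)
    (ih0 : LBs M (K - 1) n B0) (ih2 : LBs M K (n - 1) B2) (c1 : C ≤ B + B0) (c2 : C ≤ 2 * B) (c3 : C ≤ 2 * B2) :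
    LBs M K (n + 1) C := by
  intro l d hl hs hd hh hc
  by_cases hA : l.headD 0 = n + 1 - K
  · -- the first row is long
    exact c1.trans (lb_head hK hn ih1 ih0 hl hs hd hA)
  by_cases hB : colLen l 0 = n + 1 - K
  · -- transpose
    have h0 : (transpose l).headD 0 = n + 1 - K := by
      rw [headD_eq_getD, getD_transpose hl, hB]
    exact c1.trans (lb_head hK hn ih1 ih0 (pairwise_transpose l) (by rw [sum_transpose hl, hs])
      (by rw [hookProd_transpose' hl, hd]) h0)
  · have hpos : 0 < l.headD 0 := by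
      by_contra hne
      have h1 := sum_eq_sum_colLen hl
      rw [show l.headD 0 = 0 by omega, sum_range_zero] at h1
      omega
    have hcpos : 0 < colLen l 0 := by
      rw [← getD_pos_iff hl, ← headD_eq_getD]; exact hpos
    have hc1 := corner_last hl hcpos
    have hc2 := corner_first hl hpos
    by_cases hne : colLen l (l.headD 0 - 1) - 1 = colLen l 0 - 1
    · -- a rectangle
      have h0 : 0 < colLen l (l.headD 0 - 1) := by
        rw [lt_colLen_iff hl, ← headD_eq_getD]; omega
      have hprod : l.headD 0 * colLen l 0 = n + 1 := by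
        rw [← hs, sum_eq_sum_colLen hl]
        rw [← smul_eq_mul, ← card_range (l.headD 0), ← sum_const]
        rw [card_range]
        apply sum_congr rfl
        intro j hj
        rw [mem_range] at hj
        have h1 := colLen_anti l (Nat.zero_le j)
        have h2 := colLen_anti l (show j ≤ l.headD 0 - 1 by omega)
        omega
      obtain ⟨a, ha⟩ : ∃ a, a = l.headD 0 := ⟨_, rfl⟩
      obtain ⟨k, hk⟩ : ∃ k, k = colLen l 0 := ⟨_, rfl⟩
      rw [← ha, ← hk] at hprod
      have ha2 : 2 ≤ a := by
        by_contra h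
        have : a = 1 := by omega
        rw [this, one_mul] at hprod
        omega
      have hk2 : 2 ≤ k := by
        by_contra h
        have : k = 1 := by omega
        rw [this, mul_one] at hprod
        omega
      have ha3 : a ≤ n - 1 - K := by
        have : a * 2 ≤ a * k := Nat.mul_le_mul_left a hk2
        omega
      have hk3 : k ≤ n - 1 - K := by
        have : 2 * k ≤ a * k := Nat.mul_le_mul_right k ha2
        omega
      rw [← hk] at hc1
      -- remove the corner
      obtain ⟨d1, -, hd1⟩ := exists_deg (dec_rm hl hc1) (n := n) (by have := sum_rm hc1; omega)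
      have h4 := branch_one hl hs hc1 hd hd1
      have hl1 := dec_rm hl hc1
      have hs1 : (rm l (k - 1)).sum = (n - 1) + 1 := by have := sum_rm hc1; (clear * - hn hs this; omega)
      have hlen := lt_length_of_getD hc1
      have e1 : l.getD (k - 1) 0 = a := by
        have h5 := (lt_colLen_iff hl (k - 1) (a - 1)).1 (by rw [ha]; (clear * - hK hn hs hne h0 hprod hk hk2 hk3; omega))
        have h6 := getD_le_headD hl (k - 1)
        omega
      have e2 : l.getD (k - 2) 0 = a := by
        have h5 := (lt_colLen_iff hl (k - 2) (a - 1)).1 (by rw [ha]; (clear * - hK hn hs hne h0 hprod hk hk2 hk3; omega))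
        have h6 := getD_le_headD hl (k - 2)
        omega
      have e3 : l.getD k 0 = 0 := by
        have : ¬ 0 < l.getD k 0 := by rw [getD_pos_iff hl]; omega
        omega
      have hc3 : (rm l (k - 1)).getD ((k - 2) + 1) 0 < (rm l (k - 1)).getD (k - 2) 0 := by
        rw [getD_rm hlen, getD_rm hlen, if_pos (by omega), if_neg (by omega), e1, e2]
        omega
      have hc4 : (rm l (k - 1)).getD ((k - 1) + 1) 0 < (rm l (k - 1)).getD (k - 1) 0 := by
        rw [getD_rm hlen, getD_rm hlen, if_neg (by omega), if_pos rfl, e1, show k - 1 + 1 = k by omega, e3]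
        omega
      obtain ⟨d2, -, hd2⟩ := exists_deg (dec_rm hl1 hc3) (n := n - 1) (by have := sum_rm hc3; omega)
      obtain ⟨d3, -, hd3⟩ := exists_deg (dec_rm hl1 hc4) (n := n - 1) (by have := sum_rm hc4; omega)
      have h5 := branch_two hl1 hs1 (i := k - 2) (k := k - 1) (by omega) hc3 hc4
        (by rw [hd1, show n - 1 + 1 = n by (clear * - hn; omega)]) hd2 hd3
      have hhr : (rm l (k - 1)).headD 0 ≤ a := by rw [ha]; exact headD_rm_le hlen
      have hcr : colLen (rm l (k - 1)) 0 ≤ k := by rw [hk]; rw [← hk]; exact (colLen_rm_le hl hc1 0).trans hk.ge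
      have h6 := ih2 _ d2 (dec_rm hl1 hc3) (by have := sum_rm hc3; omega) hd2
        ((headD_rm_le (lt_length_of_getD hc3)).trans (by omega)) ((colLen_rm_le hl1 hc3 0).trans (by omega))
      have h7 := ih2 _ d3 (dec_rm hl1 hc4) (by have := sum_rm hc4; omega) hd3
        ((headD_rm_le (lt_length_of_getD hc4)).trans (by omega)) ((colLen_rm_le hl1 hc4 0).trans (by omega))
      have h8 : M * d2 + M * d3 ≤ M * d1 := by rw [← mul_add]; exact Nat.mul_le_mul_left _ h5
      have h9 : M * d1 ≤ M * d := Nat.mul_le_mul_left _ h4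
      omega
    · -- two corners
      obtain ⟨d1, -, hd1⟩ := exists_deg (dec_rm hl hc1) (n := n) (by have := sum_rm hc1; omega)
      obtain ⟨d2, -, hd2⟩ := exists_deg (dec_rm hl hc2) (n := n) (by have := sum_rm hc2; omega)
      have h4 := branch_two hl hs (Ne.symm hne) hc1 hc2 hd hd1 hd2
      have h5 := ih1 _ d1 (dec_rm hl hc1) (by have := sum_rm hc1; omega) hd1
        ((headD_rm_le (lt_length_of_getD hc1)).trans (by (clear * - hh hA; omega))) ((colLen_rm_le hl hc1 0).trans (by (clear * - hc hB; omega)))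
      have h6 := ih1 _ d2 (dec_rm hl hc2) (by have := sum_rm hc2; omega) hd2
        ((headD_rm_le (lt_length_of_getD hc2)).trans (by (clear * - hh hA; omega))) ((colLen_rm_le hl hc2 0).trans (by (clear * - hc hB; omega)))
      have h8 : M * d1 + M * d2 ≤ M * d := by rw [← mul_add]; exact Nat.mul_le_mul_left _ h4
      omega

/-! ### base of the tables -/

/-- the bounds `t[K]` hold for all partitions -/
def baseChk (n : ℕ) (t : List ℕ) (l : List ℕ) (H : ℕ) : Bool :=
  (List.range t.length).all fun K =>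
    Nat.blt (n - K) (l.headD 0) || Nat.blt (n - K) l.length || Nat.ble (t.getD K 0 * H) n.factorial

theorem lb_of_chk {n : ℕ} {t : List ℕ} (h : go (baseChk n t) (n + 1) n 1 [] 1 = true) {K : ℕ} (hK : K < t.length) :
    LBs 1 K n (t.getD K 0) := by
  intro l d hl hs hd hh hc
  have h1 := check_of_isPart h (isPart_filter hl hs)
  rw [baseChk, List.all_eq_true] at h1
  have h2 := h1 K (List.mem_range.2 hK)
  rw [headD_filter_pos hl, length_filter_pos, hookProd_filter hl, Bool.or_eq_true, Bool.or_eq_true] at h2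
  rcases h2 with (h2 | h2) | h2
  · rw [Nat.blt_eq] at h2; omega
  · rw [Nat.blt_eq] at h2; omega
  · have h3 := Nat.le_of_ble_eq_true h2
    rw [← hd] at h3
    rw [one_mul]
    exact Nat.le_of_mul_le_mul_right h3 (hookProd_pos hl)

end Cfsg.Agent.H704.DS
end

-- part: H704/DS/LBTab
section
/-!
# Lower bounds for the degrees of `S_n`, `20 ≤ n ≤ 61` (helper704)
-/

set_option autoImplicit false
set_option linter.unusedSectionVars false
set_option maxRecDepth 100000

namespace Cfsg.Agent.H704.DS

open Finset Cfsg.Agent.H704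

/-- the bounds for `n = 20, ..., 61` and `K = 0, ..., 12` -/
def lbtab : List (List ℕ) :=
  [[1, 19, 170, 950, 3705, 10659, 16796, 16796, 16796, 16796, 16796, 604656, 1385670],
   [1, 20, 189, 1120, 4655, 14364, 33915, 58786, 58786, 58786, 58786, 293930, 1385670],
   [1, 21, 209, 1309, 5775, 19019, 33592, 33592, 33592, 33592, 33592, 33592, 33592],
   [1, 22, 230, 1518, 7084, 24794, 52611, 67184, 67184, 67184, 67184, 67184, 67184],
   [1, 23, 252, 1748, 8602, 31878, 67184, 67184, 67184, 67184, 67184, 67184, 67184],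
   [1, 24, 275, 2000, 10350, 40480, 99062, 134368, 134368, 134368, 134368, 134368, 134368],
   [1, 25, 299, 2275, 12350, 50830, 134368, 134368, 134368, 134368, 134368, 134368, 134368],
   [1, 26, 324, 2574, 14625, 63180, 215280, 592020, 1332045, 2466750, 2674440, 2674440, 2674440],
   [1, 27, 350, 2898, 17199, 77805, 278460, 807300, 1924065, 2674440, 2674440, 2674440, 2674440],
   [1, 28, 377, 3248, 20097, 95004, 356265, 1085760, 2664090, 4598505, 5348880, 5348880, 5348880],
   [1, 29, 405, 3625, 23345, 115101, 451269, 1442025, 3749850, 5348880, 5348880, 5348880, 5348880],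
   [1, 30, 434, 4030, 26970, 138446, 566370, 1893294, 5191875, 9098730, 10697760, 10697760, 10697760],
   [1, 31, 464, 4464, 31000, 165416, 704816, 2459664, 7085169, 10697760, 10697760, 10697760, 10697760],
   [1, 32, 495, 4928, 35464, 196416, 870232, 3164480, 9544833, 17782929, 21395520, 21395520, 21395520],
   [1, 33, 527, 5423, 40392, 231880, 1066648, 4034712, 12709313, 21395520, 21395520, 21395520, 21395520],
   [1, 34, 560, 5950, 45815, 272272, 1298528, 5101360, 16744025, 34104833, 42791040, 42791040, 42791040],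
   [1, 35, 594, 6510, 51765, 318087, 1570800, 6399888, 21845385, 42791040, 42791040, 42791040, 42791040],
   [1, 36, 629, 7104, 58275, 369852, 1888887, 7970688, 28245273, 64636425, 85582080, 85582080, 85582080],
   [1, 37, 665, 7733, 65379, 428127, 2258739, 9859575, 36215961, 85582080, 85582080, 85582080, 85582080],
   [1, 38, 702, 8398, 73112, 493506, 2686866, 12118314, 46075536, 121798041, 171164160, 171164160, 171164160],
   [1, 39, 740, 9100, 81510, 566618, 3180372, 14805180, 58193850, 167873577, 171164160, 171164160, 171164160],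
   [1, 40, 779, 9840, 90610, 648128, 3746990, 17985552, 72999030, 226067427, 339037737, 342328320, 342328320],
   [1, 41, 819, 10619, 100450, 738738, 4395118, 21732542, 90984582, 299066457, 342328320, 342328320, 342328320],
   [1, 42, 860, 11438, 111069, 839188, 5133856, 26127660, 112717124, 390051039, 641394777, 684656640, 684656640],
   [1, 43, 902, 12298, 122507, 950257, 5973044, 31261516, 138844784, 502768163, 684656640, 684656640, 684656640],
   [1, 44, 945, 13200, 134805, 1072764, 6923301, 37234560, 170106300, 641612947, 1187424803, 1369313280, 1369313280],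
   [1, 45, 989, 14145, 148005, 1207569, 7996065, 44157861, 207340860, 811719247, 1369313280, 1369313280, 1369313280],
   [1, 46, 1034, 15134, 162150, 1355574, 9203634, 52153926, 251498721, 1019060107, 2181032527, 2738626560, 2738626560],
   [1, 47, 1080, 16168, 177284, 1517724, 10559208, 61357560, 303652647, 1270558828, 2738626560, 2738626560, 2738626560],
   [1, 48, 1127, 17248, 193452, 1695008, 12076932, 71916768, 365010207, 1574211475, 4009185388, 5477253120, 5477253120],
   [1, 49, 1175, 18375, 210700, 1888460, 13771940, 83993700, 436926975, 1939221682, 5477253120, 5477253120, 5477253120],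
   [1, 50, 1224, 19550, 229075, 2099160, 15660400, 97765640, 520920675, 2376148657, 7416474802, 10954506240, 10954506240],
   [1, 51, 1274, 20774, 248625, 2328235, 17759560, 113426040, 618686315, 2897069332, 9792623459, 10954506240, 10954506240],
   [1, 52, 1325, 22048, 269399, 2576860, 20087795, 131185600, 732112355, 3515755647, 12689692791, 20747129699, 21909012480],
   [1, 53, 1377, 23373, 291447, 2846259, 22664655, 151273395, 863297955, 4247868002, 16205448438, 21909012480, 21909012480],
   [1, 54, 1430, 24750, 314820, 3137706, 25510914, 173938050, 1014571350, 5111165957, 20453316440, 38114460918, 43818024960],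
   [1, 55, 1484, 26180, 339570, 3452526, 28648620, 199448964, 1188509400, 6125737307, 25564482397, 43818024960, 43818024960],
   [1, 56, 1539, 27664, 365750, 3792096, 32101146, 228097584, 1387958364, 7314246707, 31690219704, 69382507357, 87636049920],
   [1, 57, 1595, 29203, 393414, 4157846, 35893242, 260198730, 1616055948, 8702205071, 39004466411, 87636049920, 87636049920],
   [1, 58, 1652, 30798, 422617, 4551260, 40051088, 296091972, 1876254678, 10318261019, 47706671482, 126640516331, 175272099840],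
   [1, 59, 1710, 32450, 453415, 4973877, 44602348, 336143060, 2172346650, 12194515697, 58024932501, 174347187813, 175272099840],
   [1, 60, 1769, 34160, 485865, 5427292, 49576225, 380745408, 2508489710, 14366862347, 70219448198, 232372120314, 349619287653]]

/-- the row `n` -/
def tr (n : ℕ) : List ℕ := lbtab.getD (n - 20) []

/-- the entry `n`, `K` -/
def tg (n K : ℕ) : ℕ := (tr n).getD K 0

/-- the bounds `t` from the place `K` on, for the degree `d` and the larger `m` of the first row and column -/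
private noncomputable def baseQ (n m d : ℕ) (t : List ℕ) : ℕ → Bool :=
  List.rec (motive := fun _ => ℕ → Bool) (fun _ => true)
    (fun x _ ih K => cond (Nat.blt (Nat.sub n K) m) true (cond (Nat.ble x d) (ih (Nat.succ K)) false)) t

private theorem baseQ_spec {n m d : ℕ} : ∀ (t : List ℕ) (K : ℕ), baseQ n m d t K = true → ∀ i < t.length,
    n - (K + i) < m ∨ t.getD i 0 ≤ d
  | [], _, _, _, hi => absurd hi (Nat.not_lt_zero _)
  | x :: t, K, h, i, hi => by
    replace h : cond (Nat.blt (n - K) m) true (cond (Nat.ble x d) (baseQ n m d t (K + 1)) false) = true := h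
    cases h1 : Nat.blt (n - K) m with
    | true => rw [Nat.blt_eq] at h1; left; omega
    | false =>
      rw [h1, cond_false] at h
      cases h2 : Nat.ble x d with
      | false => rw [h2] at h; exact absurd h Bool.false_ne_true
      | true =>
        rw [h2, cond_true] at h
        cases i with
        | zero => exact Or.inr (Nat.le_of_ble_eq_true h2)
        | succ i =>
          have h3 := baseQ_spec t (K + 1) h i (Nat.lt_of_succ_lt_succ hi)
          rwa [show K + 1 + i = K + (i + 1) by omega] at h3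

private noncomputable def baseF (n : ℕ) (t : List ℕ) (l : List ℕ) (H : ℕ) : Bool :=
  frcQ (cond (Nat.ble (l.headD 0) l.length) l.length (l.headD 0)) fun m =>
    frcQ (Nat.div n.factorial H) fun d => baseQ n m d t 0

private theorem base_fast {n : ℕ} {t : List ℕ} (h : goQ (baseF n t) n n 1 n [] [] 1 = true) :
    go (baseChk n t) (n + 1) n 1 [] 1 = true := by
  refine go_of_fast' (fun l H h1 => ?_) h
  rw [baseF, frcQ_eq, frcQ_eq] at h1
  rw [baseChk, List.all_eq_true]
  intro K hK
  rw [Bool.or_eq_true, Bool.or_eq_true, Nat.blt_eq, Nat.blt_eq, Nat.ble_eq]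
  rcases baseQ_spec t 0 h1 K (List.mem_range.1 hK) with h2 | h2
  · left
    revert h2
    cases Nat.ble (l.headD 0) l.length <;> simp only [cond_true, cond_false] <;> omega
  · exact Or.inr ((Nat.mul_le_mul_right H h2).trans (Nat.div_mul_le_self _ _))

theorem base20 : go (baseChk 20 (tr 20)) 21 20 1 [] 1 = true := base_fast (by decide +kernel)

theorem base21 : go (baseChk 21 (tr 21)) 22 21 1 [] 1 = true := base_fast (by decide +kernel)

theorem base27 : go (baseChk 27 (tr 27)) 28 27 1 [] 1 = true := base_fast (by decide +kernel)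

theorem base28 : go (baseChk 28 (tr 28)) 29 28 1 [] 1 = true := base_fast (by decide +kernel)

/-- the step condition from `n - 1` and `n - 2` to `n` -/
def stepChk (n : ℕ) : Bool :=
  (List.range 13).all fun K =>
    if K = 0 then Nat.ble (tg n K) 1
    else if 2 * K + 3 ≤ n - 1 then
      (Nat.ble (tg n K) (tg (n - 1) K + tg (n - 1) (K - 1)) && Nat.ble (tg n K) (2 * tg (n - 1) K) &&
        Nat.ble (tg n K) (2 * tg (n - 2) K)) || Nat.ble (tg n K) (tg n (K - 1))
    else Nat.ble (tg n K) (tg n (K - 1))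

theorem step_row {n : ℕ} (h1 : ∀ K ≤ 12, LBs 1 K n (tg n K)) (h0 : ∀ K ≤ 12, LBs 1 K (n - 1) (tg (n - 1) K))
    (hc : stepChk (n + 1) = true) : ∀ K ≤ 12, LBs 1 K (n + 1) (tg (n + 1) K) := by
  intro K
  induction K with
  | zero =>
    intro _
    rw [stepChk, List.all_eq_true] at hc
    have h2 := hc 0 (by simp)
    rw [if_pos rfl] at h2
    exact (LBs.base 1 0 (n + 1)).mono (Nat.le_of_ble_eq_true h2)
  | succ K ih =>
    intro hK
    have ih := ih (by omega)
    rw [stepChk, List.all_eq_true] at hc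
    have h2 := hc (K + 1) (by rw [List.mem_range]; omega)
    rw [if_neg (by omega)] at h2
    simp only [Nat.add_sub_cancel] at h2
    split_ifs at h2 with h3
    · rw [Bool.or_eq_true, Bool.and_eq_true, Bool.and_eq_true] at h2
      rcases h2 with ⟨⟨g1, g2⟩, g3⟩ | h2
      · have g1 := Nat.le_of_ble_eq_true g1
        have g2 := Nat.le_of_ble_eq_true g2
        have g3 := Nat.le_of_ble_eq_true g3
        rw [show n + 1 - 2 = n - 1 by omega] at g3
        exact LBs.step (by omega) h3 (h1 _ hK) (h1 K (by omega)) (h0 _ hK) g1 g2 g3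
      · exact (ih.of_le (by omega)).mono (Nat.le_of_ble_eq_true h2)
    · exact (ih.of_le (by omega)).mono (Nat.le_of_ble_eq_true h2)

theorem row20 : ∀ K ≤ 12, LBs 1 K 20 (tg 20 K) := fun K hK => lb_of_chk base20 (by
  have : (tr 20).length = 13 := by decide
  omega)

theorem row21 : ∀ K ≤ 12, LBs 1 K 21 (tg 21 K) := fun K hK => lb_of_chk base21 (by
  have : (tr 21).length = 13 := by decide
  omega)

theorem row27 : ∀ K ≤ 12, LBs 1 K 27 (tg 27 K) := fun K hK => lb_of_chk base27 (by
  have : (tr 27).length = 13 := by decide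
  omega)

theorem row28 : ∀ K ≤ 12, LBs 1 K 28 (tg 28 K) := fun K hK => lb_of_chk base28 (by
  have : (tr 28).length = 13 := by decide
  omega)

theorem steps1 : (List.range 5).all (fun i => stepChk (22 + i)) = true := by decide +kernel

theorem steps2 : (List.range 33).all (fun i => stepChk (29 + i)) = true := by decide +kernel

theorem lbt_low (n : ℕ) (h1 : 20 ≤ n) (h2 : n ≤ 25) : (∀ K ≤ 12, LBs 1 K n (tg n K)) ∧
    ∀ K ≤ 12, LBs 1 K (n + 1) (tg (n + 1) K) := by
  induction n, h1 using Nat.le_induction with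
  | base => exact ⟨row20, row21⟩
  | succ n hn ih =>
    obtain ⟨g1, g2⟩ := ih (by omega)
    refine ⟨g2, step_row (n := n + 1) g2 g1 ?_⟩
    have h3 := List.all_eq_true.1 steps1 (n - 20) (by rw [List.mem_range]; omega)
    rwa [show 22 + (n - 20) = n + 1 + 1 by omega] at h3

theorem lbt_high (n : ℕ) (h1 : 27 ≤ n) (h2 : n ≤ 60) : (∀ K ≤ 12, LBs 1 K n (tg n K)) ∧
    ∀ K ≤ 12, LBs 1 K (n + 1) (tg (n + 1) K) := by
  induction n, h1 using Nat.le_induction with
  | base => exact ⟨row27, row28⟩
  | succ n hn ih =>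
    obtain ⟨g1, g2⟩ := ih (by omega)
    refine ⟨g2, step_row (n := n + 1) g2 g1 ?_⟩
    have h3 := List.all_eq_true.1 steps2 (n - 27) (by rw [List.mem_range]; omega)
    rwa [show 29 + (n - 27) = n + 1 + 1 by omega] at h3

/-- **the bounds, `20 ≤ n ≤ 61`** -/
theorem lbt {n : ℕ} (h1 : 20 ≤ n) (h2 : n ≤ 61) {K : ℕ} (hK : K ≤ 12) : LBs 1 K n (tg n K) := by
  rcases Nat.lt_or_ge n 26 with h | h
  · exact (lbt_low n h1 (by omega)).1 K hK
  · rcases Nat.lt_or_ge n 27 with h' | h'
    · have : n = 25 + 1 := by omega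
      subst this
      exact (lbt_low 25 (by omega) (by omega)).2 K hK
    · rcases Nat.lt_or_ge n 61 with h'' | h''
      · exact (lbt_high n h' (by omega)).1 K hK
      · have : n = 60 + 1 := by omega
        subst this
        exact (lbt_high 60 (by omega) (by omega)).2 K hK

end Cfsg.Agent.H704.DS
end

-- part: H704/DS/LBHigh
section
/-!
# Lower bounds for the degrees of `S_n`, `n ≥ 60` (helper704)
-/

set_option autoImplicit false
set_option linter.unusedSectionVars false
set_option maxRecDepth 100000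

namespace Cfsg.Agent.H704.DS

open Finset Cfsg.Agent.H704

/-- `K!` times the degree of `(n - K, K)` -/
def Rp : ℕ → ℕ → ℕ
  | 0, _ => 1
  | K + 1, n => n.descFactorial K * (n - 1 - 2 * K)

theorem Rp_pascal {K n : ℕ} (h : 2 * K + 2 ≤ n) : Rp (K + 1) (n + 1) = Rp (K + 1) n + (K + 1) * Rp K n := by
  cases K with
  | zero =>
    simp only [Rp, Nat.descFactorial_zero]
    omega
  | succ j =>
    obtain ⟨m, rfl⟩ := Nat.exists_eq_add_of_le h
    simp only [Rp]
    rw [Nat.succ_descFactorial_succ, Nat.descFactorial_succ]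
    rw [show 2 * (j + 1) + 2 + m + 1 - 1 - 2 * (j + 1) = m + 2 by omega,
      show 2 * (j + 1) + 2 + m - j = j + 4 + m by omega,
      show 2 * (j + 1) + 2 + m - 1 - 2 * (j + 1) = m + 1 by omega,
      show 2 * (j + 1) + 2 + m - 1 - 2 * j = m + 3 by omega]
    ring

/-- growth -/
theorem Rp_growth {K x : ℕ} (hK : K ≤ 12) (hx : 59 ≤ x) : 5 * Rp K (x + 1) ≤ 7 * Rp K x := by
  cases K with
  | zero => simp [Rp]
  | succ j =>
    simp only [Rp]
    have h1 : (x + 1 - j) * (x + 1).descFactorial j = (x + 1) * x.descFactorial j := Nat.succ_descFactorial x j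
    have h2 : 5 * (x + 1) * (x + 1 - 1 - 2 * j) ≤ 7 * (x + 1 - j) * (x - 1 - 2 * j) := by
      obtain ⟨y, rfl⟩ := Nat.exists_eq_add_of_le hx
      have hj : j ≤ 11 := by omega
      interval_cases j <;>
      · simp only [Nat.add_sub_cancel]
        rw [show 59 + y + 1 = y + 60 by omega]
        first
          | (rw [show 59 + y - 2 * 0 = y + 59 by omega, show y + 60 - 0 = y + 60 by omega,
              show 59 + y - 1 - 2 * 0 = y + 58 by omega]; nlinarith only [])
          | (rw [show 59 + y - 2 * 1 = y + 57 by omega, show y + 60 - 1 = y + 59 by omega,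
              show 59 + y - 1 - 2 * 1 = y + 56 by omega]; nlinarith)
          | (rw [show 59 + y - 2 * 1 = y + 57 by omega, show 59 + y - 1 - 2 * 1 = y + 56 by omega]; nlinarith only [])
          | (rw [show 59 + y - 2 * 2 = y + 55 by omega, show y + 60 - 2 = y + 58 by omega,
              show 59 + y - 1 - 2 * 2 = y + 54 by omega]; nlinarith only [])
          | (rw [show 59 + y - 2 * 3 = y + 53 by omega, show y + 60 - 3 = y + 57 by omega,
              show 59 + y - 1 - 2 * 3 = y + 52 by omega]; nlinarith only [])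
          | (rw [show 59 + y - 2 * 4 = y + 51 by omega, show y + 60 - 4 = y + 56 by omega,
              show 59 + y - 1 - 2 * 4 = y + 50 by omega]; nlinarith only [])
          | (rw [show 59 + y - 2 * 5 = y + 49 by omega, show y + 60 - 5 = y + 55 by omega,
              show 59 + y - 1 - 2 * 5 = y + 48 by omega]; nlinarith only [])
          | (rw [show 59 + y - 2 * 6 = y + 47 by omega, show y + 60 - 6 = y + 54 by omega,
              show 59 + y - 1 - 2 * 6 = y + 46 by omega]; nlinarith only [])
          | (rw [show 59 + y - 2 * 7 = y + 45 by omega, show y + 60 - 7 = y + 53 by omega,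
              show 59 + y - 1 - 2 * 7 = y + 44 by omega]; nlinarith only [])
          | (rw [show 59 + y - 2 * 8 = y + 43 by omega, show y + 60 - 8 = y + 52 by omega,
              show 59 + y - 1 - 2 * 8 = y + 42 by omega]; nlinarith only [])
          | (rw [show 59 + y - 2 * 9 = y + 41 by omega, show y + 60 - 9 = y + 51 by omega,
              show 59 + y - 1 - 2 * 9 = y + 40 by omega]; nlinarith only [])
          | (rw [show 59 + y - 2 * 10 = y + 39 by omega, show y + 60 - 10 = y + 50 by omega,
              show 59 + y - 1 - 2 * 10 = y + 38 by omega]; nlinarith only [])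
          | (rw [show 59 + y - 2 * 11 = y + 37 by omega, show y + 60 - 11 = y + 49 by omega,
              show 59 + y - 1 - 2 * 11 = y + 36 by omega]; nlinarith only [])
    have h3 : 0 < x + 1 - j := by omega
    apply Nat.le_of_mul_le_mul_left _ h3
    calc (x + 1 - j) * (5 * ((x + 1).descFactorial j * (x + 1 - 1 - 2 * j)))
        = ((x + 1 - j) * (x + 1).descFactorial j) * (5 * (x + 1 - 1 - 2 * j)) := by ring
      _ = x.descFactorial j * (5 * (x + 1) * (x + 1 - 1 - 2 * j)) := by rw [h1]; ring
      _ ≤ x.descFactorial j * (7 * (x + 1 - j) * (x - 1 - 2 * j)) := Nat.mul_le_mul_left _ h2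
      _ = (x + 1 - j) * (7 * (x.descFactorial j * (x - 1 - 2 * j))) := by ring

theorem Rp_growth2 {K x : ℕ} (hK : K ≤ 12) (hx : 59 ≤ x) : Rp K (x + 2) ≤ 2 * Rp K x := by
  have h1 := Rp_growth (K := K) (x := x) hK hx
  have h2 := Rp_growth (K := K) (x := x + 1) hK (by omega)
  rw [show x + 1 + 1 = x + 2 by omega] at h2
  omega

theorem Rp_mono {K n m : ℕ} (hn : 2 * K ≤ n) (h : n ≤ m) : Rp K n ≤ Rp K m := by
  induction m, h using Nat.le_induction with
  | base => exact le_rfl
  | succ m hm ih =>
    refine ih.trans ?_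
    cases K with
    | zero => exact le_rfl
    | succ K => rw [Rp_pascal (by omega)]; exact Nat.le_add_right _ _

/-- the weights -/
def wt : ℕ → ℕ
  | 12 => 16
  | 11 => 65
  | _ => 95

theorem wt_anti {K : ℕ} (h1 : K + 1 ≤ 12) : wt (K + 1) ≤ wt K := by
  have : K ≤ 11 := by omega
  interval_cases K <;> decide

/-- the scaled bounds -/
def X (K n : ℕ) : ℕ := wt K * Rp K n * (Nat.factorial 12 / K.factorial)

theorem fac_dvd {K : ℕ} (hK : K + 1 ≤ 12) :
    (Nat.factorial 12 / K.factorial) = (K + 1) * (Nat.factorial 12 / (K + 1).factorial) := by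
  have : K ≤ 11 := by omega
  interval_cases K <;> decide

def baseX (n : ℕ) : Bool := (List.range 13).all fun K => Nat.ble (X K n) (100 * Nat.factorial 12 * tg n K)

theorem baseX60 : baseX 60 = true := by decide +kernel

theorem baseX61 : baseX 61 = true := by decide +kernel

theorem lbx_base {n : ℕ} (h1 : 20 ≤ n) (h2 : n ≤ 61) (h : baseX n = true) {K : ℕ} (hK : K ≤ 12) :
    LBs (100 * Nat.factorial 12) K n (X K n) := by
  have h3 := (lbt h1 h2 hK).scale (100 * Nat.factorial 12)
  rw [mul_one] at h3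
  refine h3.mono ?_
  rw [baseX, List.all_eq_true] at h
  exact Nat.le_of_ble_eq_true (h K (by rw [List.mem_range]; omega))

theorem lbx (n : ℕ) (hn : 60 ≤ n) : (∀ K ≤ 12, LBs (100 * Nat.factorial 12) K n (X K n)) ∧
    ∀ K ≤ 12, LBs (100 * Nat.factorial 12) K (n + 1) (X K (n + 1)) := by
  induction n, hn using Nat.le_induction with
  | base => exact ⟨fun K hK => lbx_base (by omega) (by omega) baseX60 hK,
      fun K hK => lbx_base (by omega) (by omega) baseX61 hK⟩
  | succ n hn ih =>
    obtain ⟨g1, g2⟩ := ih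
    refine ⟨g2, ?_⟩
    intro K hK
    cases K with
    | zero =>
      refine (LBs.base _ _ _).mono ?_
      simp only [X, Rp, wt, Nat.factorial_zero, Nat.div_one, mul_one]
      exact Nat.mul_le_mul_right _ (by norm_num)
    | succ K =>
      have h1 := g2 (K + 1) hK
      have h2 := g2 K (by omega)
      have h3 := g1 (K + 1) hK
      have e1 : X (K + 1) (n + 1 + 1) ≤ X (K + 1) (n + 1) + X K (n + 1) := by
        simp only [X]
        rw [Rp_pascal (show 2 * K + 2 ≤ n + 1 by omega), fac_dvd hK]
        have := wt_anti hK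
        calc wt (K + 1) * (Rp (K + 1) (n + 1) + (K + 1) * Rp K (n + 1)) * (Nat.factorial 12 / (K + 1).factorial)
            = wt (K + 1) * Rp (K + 1) (n + 1) * (Nat.factorial 12 / (K + 1).factorial) +
              wt (K + 1) * (Rp K (n + 1) * ((K + 1) * (Nat.factorial 12 / (K + 1).factorial))) := by ring
          _ ≤ wt (K + 1) * Rp (K + 1) (n + 1) * (Nat.factorial 12 / (K + 1).factorial) +
              wt K * (Rp K (n + 1) * ((K + 1) * (Nat.factorial 12 / (K + 1).factorial))) := by gcongr
          _ = _ := by ring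
      have e3 : X (K + 1) (n + 1 + 1) ≤ 2 * X (K + 1) n := by
        simp only [X]
        have := Rp_growth2 (K := K + 1) (x := n) hK (by omega)
        calc wt (K + 1) * Rp (K + 1) (n + 2) * (Nat.factorial 12 / (K + 1).factorial)
            ≤ wt (K + 1) * (2 * Rp (K + 1) n) * (Nat.factorial 12 / (K + 1).factorial) := by gcongr
          _ = _ := by ring
      have e2 : X (K + 1) (n + 1 + 1) ≤ 2 * X (K + 1) (n + 1) := by
        refine e3.trans ?_
        simp only [X]
        have := Rp_mono (K := K + 1) (n := n) (m := n + 1) (by omega) (by omega)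
        gcongr
      exact LBs.step (by omega) (by omega) h1 h2 (by rw [Nat.add_sub_cancel]; exact h3) e1 e2 e3

/-- **the bounds for `n ≥ 60`**: `B` is a bound if `100 K! B ≤ w_K Rp_K(m)` for an `m ≤ n` -/
theorem lb_high {K m n B : ℕ} (hK : K ≤ 12) (hm : 60 ≤ m) (hmn : m ≤ n)
    (h : 100 * K.factorial * B ≤ wt K * Rp K m) : LBs 1 K n B := by
  intro l d h1 h2 h3 h4 h5
  have h6 := (lbx n (by omega)).1 K hK l d h1 h2 h3 h4 h5
  rw [one_mul]
  have h7 := Rp_mono (K := K) (n := m) (m := n) (by omega) hmn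
  have h8 : K.factorial * (Nat.factorial 12 / K.factorial) = Nat.factorial 12 :=
    Nat.mul_div_cancel' (Nat.factorial_dvd_factorial hK)
  have h9 : 0 < 100 * Nat.factorial 12 := by positivity
  apply Nat.le_of_mul_le_mul_left _ h9
  calc 100 * Nat.factorial 12 * B = 100 * (K.factorial * (Nat.factorial 12 / K.factorial)) * B := by rw [h8]
    _ = (100 * K.factorial * B) * (Nat.factorial 12 / K.factorial) := by ring
    _ ≤ (wt K * Rp K m) * (Nat.factorial 12 / K.factorial) := Nat.mul_le_mul_right _ h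
    _ ≤ (wt K * Rp K n) * (Nat.factorial 12 / K.factorial) := by gcongr
    _ ≤ _ := h6

end Cfsg.Agent.H704.DS
end

private theorem dce_c4599030ed15 : _root_.True := by
  try have : _root_.True := by simp only [_root_.Cfsg.Agent.H704.DS.wt.eq_1]
  try have : _root_.True := by simp only [_root_.Cfsg.Agent.H704.DS.wt.eq_2]
  try have : _root_.True := by simp only [_root_.Cfsg.Agent.H704.DS.stepChk.eq_1]
  try have : _root_.True := by simp only [_root_.Cfsg.Agent.H704.DS.Rp.eq_1]
  try have : _root_.True := by simp only [_root_.Cfsg.Agent.H704.DS.wt.eq_3]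
  try have : _root_.True := by simp only [_root_.Cfsg.Agent.H704.DS.baseX.eq_1]
  try have : _root_.True := by simp only [_root_.Cfsg.Agent.H704.DS.Rp.eq_2]
  try have : _root_.True := by simp only [_root_.Cfsg.Agent.H704.DS.X.eq_1]
  try have : _root_.True := by simp only [_root_.Cfsg.Agent.H704.DS.baseChk.eq_1]
  exact _root_.True.intro
end

-- part: H704/DS/Base
section
prune_inst 0x7f00000000000000000000000000000000000000000000000000000000000000000000000000000000000000000000000000000000000000000000000000000000000000000000000000000000000000003fffffffffffffffffffffffffffbeffbdffffffff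
set_option linter.all false
open scoped Cfsg.Agent.FastGrp

/-!
# Groups whose degrees are degrees of `S_n` (helper704)

* `SubDeg n K` : the degrees of `K` are degrees of `S_n`;
* `DegM two n K` : the same, up to a factor two if `two = true`;
* `IM K` : every prime divisor of `|K|` divides a degree of `K`;
* `Facts K N P S` : the facts used;
* `Cover n Q E` : `E` enumerates the degrees `d` of `S_n` with `Q d`;
* `kill` : the kernel check at one `n`.
-/

set_option autoImplicit false
set_option linter.unusedSectionVars false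

universe u

namespace Cfsg.Agent.H704.DS

open Cfsg Subgroup
open Cfsg.Agent.Characters.Core
open Cfsg.Agent.M23Order.Base

/-- the degrees of `T` are degrees of `S_n` -/
def SubDeg (n : ℕ) (T : Type*) [Group T] : Prop :=
  ∀ ψ : T → ℂ, IsIrrCharacter T ψ → ∃ d : ℕ, IsDeg n d ∧ ψ 1 = (d : ℂ)

/-- the degrees of `T` are `d`, or `d / 2` if `two = true`, for degrees `d` of `S_n` -/
def DegM (two : Bool) (n : ℕ) (T : Type*) [Group T] : Prop :=
  ∀ ψ : T → ℂ, IsIrrCharacter T ψ → ∃ d : ℕ, IsDeg n d ∧ ((d : ℂ) = ψ 1 ∨ (two = true ∧ (d : ℂ) = 2 * ψ 1))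

/-- every prime divisor of the order divides the degree of an irreducible character (Itô–Michler) -/
def IM (T : Type*) [Group T] : Prop :=
  ∀ p : ℕ, p.Prime → p ∣ Nat.card T → ∃ (ψ : T → ℂ) (e : ℕ), IsIrrCharacter T ψ ∧ ψ 1 = (e : ℂ) ∧ p ∣ e

theorem SubDeg.degM {n : ℕ} {T : Type*} [Group T] (h : SubDeg n T) : DegM false n T := by
  intro ψ hψ
  obtain ⟨d, h1, h2⟩ := h ψ hψ
  exact ⟨d, h1, Or.inl h2.symm⟩

theorem _root_.Cfsg.Agent.H704.DegOK.degM {n : ℕ} {T : Type*} [Group T] (h : DegOK n T) : DegM true n T := by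
  intro ψ hψ
  obtain ⟨d, h1, h2⟩ := h ψ hψ
  exact ⟨d, h1, h2.imp id fun h3 => ⟨rfl, h3⟩⟩

theorem SubDeg.degOK {n : ℕ} {T : Type*} [Group T] (h : SubDeg n T) : DegOK n T := by
  intro ψ hψ
  obtain ⟨d, h1, h2⟩ := h ψ hψ
  exact ⟨d, h1, Or.inl h2.symm⟩

theorem DegM.nat {two : Bool} {n : ℕ} {T : Type*} [Group T] (h : DegM two n T) {ψ : T → ℂ}
    (hψ : IsIrrCharacter T ψ) {e : ℕ} (he : ψ 1 = e) :
    ∃ d : ℕ, IsDeg n d ∧ (d = e ∨ (two = true ∧ d = 2 * e)) := by
  obtain ⟨d, h1, h2⟩ := h ψ hψ
  refine ⟨d, h1, ?_⟩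
  rw [he] at h2
  rcases h2 with h2 | ⟨h3, h2⟩
  · exact Or.inl (by exact_mod_cast h2)
  · exact Or.inr ⟨h3, by exact_mod_cast h2⟩

/-- a self-centralizing Sylow subgroup of order `p`, with `e = |N : C|` -/
def SCok (K : Type u) [Group K] [Finite K] (p e : ℕ) : Prop :=
  3 ≤ p ∧ 0 < e ∧ e < p ∧ ∃ (t : ℕ) (P : Sylow p K), 0 < t ∧ e * t = p - 1 ∧ Nonempty (SC p e t P)

theorem SCok.mk' {K : Type u} [Group K] [Finite K] (p : ℕ) (hp : p.Prime) (hp2 : p ≠ 2) (hd : p ∣ Nat.card K)
    (hdd : ¬ p ^ 2 ∣ Nat.card K)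
    (hC : ∀ y : K, orderOf y = p → Nat.card (centralizer ({y} : Set K)) = p) {e : ℕ}
    (he : Nat.card K / p % p = e) (ht : e * ((p - 1) / e) = p - 1) : SCok K p e := by
  haveI : Fact p.Prime := ⟨hp⟩
  have h2 := hp.two_le
  obtain ⟨P, -, h⟩ := H417.BlockCount.exists_SC p hp2 hd hdd hC he ht
  have h3 : 0 < e := by
    rcases Nat.eq_zero_or_pos e with h0 | h0
    · rw [h0, zero_mul] at ht; omega
    · exact h0
  refine ⟨by omega, h3, he ▸ Nat.mod_lt _ hp.pos, _, P, ?_, ht, h⟩
  apply Nat.pos_of_ne_zero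
  intro h0
  rw [h0, mul_zero] at ht
  omega

/-- the facts on `K` -/
structure Facts (K : Type u) [Group K] [Finite K] (N : ℕ) (P : List ℕ) (S : List (ℕ × ℕ)) : Prop where
  card : Nat.card K = N
  perfect : commutator K = ⊤
  prime : ∀ p ∈ P, p.Prime ∧ p ∣ N
  im : IM K
  sc : ∀ q ∈ S, SCok K q.1 q.2

/-- no residue condition fails -/
def badRes (S : List (ℕ × ℕ)) (e : ℕ) : Bool :=
  S.any fun q => (e % q.1 != 0) && (e % q.1 != 1) && (e % q.1 != q.1 - 1) && (e % q.1 != q.2) && (e % q.1 != q.1 - q.2)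

/-- `e` is not the degree of a nontrivial irreducible character -/
def base (N : ℕ) (S : List (ℕ × ℕ)) (e : ℕ) : Bool :=
  (e == 1) || (N % e != 0) || Nat.ble N (e * e) || badRes S e

/-- the test of a degree `d` of `S_n` -/
def leaf (two : Bool) (f : ℕ → Bool) (d : ℕ) : Bool :=
  f d && (!two || d % 2 != 0 || f (d / 2))

variable {K : Type u} [Group K] [Finite K] {N n : ℕ} {P : List ℕ} {S : List (ℕ × ℕ)} {two : Bool}

/-- degrees divide the order -/
theorem dvd_card {ψ : K → ℂ} (hψ : IsIrrCharacter K ψ) {e : ℕ} (he : ψ 1 = e) : e ∣ Nat.card K := by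
  obtain ⟨n, ρ, hρ, hρ'⟩ := hψ
  have h1 := Characters.DegreeBounds.finrank_dvd_card ρ
  have h2 : (Module.finrank ℂ (Fin n → ℂ) : ℂ) = e := by
    rw [← he, ← hρ', Representation.char_one]
  have h3 : Module.finrank ℂ (Fin n → ℂ) = e := by exact_mod_cast h2
  rwa [h3] at h1

/-- squares of degrees -/
theorem sq_lt_card {ψ : K → ℂ} (hψ : IsIrrCharacter K ψ) {e : ℕ} (he : ψ 1 = e) (h1 : e ≠ 1) :
    e * e < Nat.card K := by
  classical
  have := finite_irr (G := K)
  have := Fintype.ofFinite (IrrCharacter K)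
  choose d hd0 hd using fun η : IrrCharacter K => isIrr_apply_one η.2
  have hsum : ∑ η : IrrCharacter K, d η ^ 2 = Nat.card K := by
    have h1 := CharDeep.PowerDegrees.sum_sq (G := K)
    simp only [hd] at h1
    exact_mod_cast h1
  let o : IrrCharacter K := ⟨1, isIrr_one⟩
  have ho : d o = 1 := by
    have h1 := hd o
    have h2 : (o : K → ℂ) 1 = 1 := rfl
    rw [h2] at h1
    exact_mod_cast h1.symm
  rw [← Finset.add_sum_erase _ _ (Finset.mem_univ o), ho, one_pow] at hsum
  let η : IrrCharacter K := ⟨ψ, hψ⟩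
  have hη : d η = e := by
    have h2 := hd η
    rw [show ((η : IrrCharacter K) : K → ℂ) = ψ from rfl, he] at h2
    exact_mod_cast h2.symm
  have hηo : η ≠ o := by
    intro h0
    rw [h0, ho] at hη
    exact h1 hη.symm
  have h2 : d η ^ 2 ≤ ∑ η ∈ Finset.univ.erase o, d η ^ 2 :=
    Finset.single_le_sum (f := fun η => d η ^ 2) (fun _ _ => Nat.zero_le _)
      (Finset.mem_erase.2 ⟨hηo, Finset.mem_univ _⟩)
  rw [hη, pow_two] at h2
  omega

theorem dg_mk {ψ : K → ℂ} (hψ : IsIrrCharacter K ψ) {e : ℕ} (he : ψ 1 = e) : dg (⟨ψ, hψ⟩ : IrrCharacter K) = e :=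
  dg_of_eq he

/-- the degree of a nontrivial irreducible character of a perfect group -/
theorem Facts.base_false (F : Facts K N P S) {ψ : K → ℂ} (hψ : IsIrrCharacter K ψ) {e : ℕ} (he : ψ 1 = e)
    (h1 : e ≠ 1) : base N S e = false := by
  have h2 : e ∣ N := by rw [← F.card]; exact dvd_card hψ he
  have h3 : e * e < N := by rw [← F.card]; exact sq_lt_card hψ he h1
  have h4 : badRes S e = false := by
    rw [badRes, List.any_eq_false]
    intro q hq
    obtain ⟨g1, g2, g3, t, Q, g4, g5, ⟨D⟩⟩ := F.sc q hq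
    have h5 := H417.BlockCount.mod_cases D (by omega) g2 g3 ⟨ψ, hψ⟩
    rw [dg_mk hψ he] at h5
    rcases h5 with h | h | h | h | h <;> simp [h]
  have hne : N % e = 0 := Nat.mod_eq_zero_of_dvd h2
  have h5 : Nat.ble N (e * e) = false := by
    rw [Bool.eq_false_iff]
    intro h
    have := Nat.le_of_ble_eq_true h
    omega
  unfold base
  rw [h4, hne, h5]
  simp [h1]

/-- the test functions on the nontrivial degrees -/
theorem Facts.test (F : Facts K N P S) {f : ℕ → Bool} (hd : DegM two n K)
    (h : ∀ d, IsDeg n d → leaf two (fun e => base N S e || f e) d = true) {ψ : K → ℂ} (hψ : IsIrrCharacter K ψ)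
    {e : ℕ} (he : ψ 1 = e) (h1 : e ≠ 1) : f e = true := by
  obtain ⟨d, h2, h3⟩ := hd.nat hψ he
  have h4 := h d h2
  rw [leaf, Bool.and_eq_true] at h4
  have h5 : (base N S e || f e) = true := by
    rcases h3 with rfl | ⟨rfl, rfl⟩
    · exact h4.1
    · have h6 := h4.2
      rw [Nat.mul_mod_right, Nat.mul_div_cancel_left _ (by norm_num)] at h6
      simpa using h6
  rw [F.base_false hψ he h1, Bool.false_or] at h5
  exact h5

/-- `E` enumerates the degrees `d` of `S_n` with `Q d` -/
def Cover (n : ℕ) (Q : ℕ → Prop) (E : (ℕ → Bool) → Bool) : Prop :=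
  ∀ chk : ℕ → Bool, E chk = true → ∀ d, IsDeg n d → Q d → chk d = true

/-- the degrees without `Q` are no degrees of `K`, nor twice a degree of `K` -/
def Base2 (two : Bool) (N : ℕ) (S : List (ℕ × ℕ)) (Q : ℕ → Prop) : Prop :=
  ∀ d, ¬ Q d → base N S d = true ∧ (two = true → d % 2 = 0 → base N S (d / 2) = true)

theorem Facts.test' (F : Facts K N P S) {f : ℕ → Bool} (hd : DegM two n K) {Q : ℕ → Prop}
    {E : (ℕ → Bool) → Bool} (hE : Cover n Q E) (hQ : Base2 two N S Q)
    (h : E (leaf two fun e => base N S e || f e) = true) {ψ : K → ℂ} (hψ : IsIrrCharacter K ψ)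
    {e : ℕ} (he : ψ 1 = e) (h1 : e ≠ 1) : f e = true := by
  refine F.test hd ?_ hψ he h1
  intro d hdd
  by_cases hq : Q d
  · exact hE _ h d hdd hq
  · obtain ⟨h2, h3⟩ := hQ d hq
    rw [leaf, h2]
    cases two with
    | false => rfl
    | true =>
      by_cases h4 : d % 2 = 0
      · simp [h3 rfl h4]
      · have h5 : d % 2 = 1 := by omega
        simp [h5]

/-- the check at one `n` -/
def kill (two : Bool) (N : ℕ) (P : List ℕ) (S : List (ℕ × ℕ)) (E : (ℕ → Bool) → Bool) : Bool :=
  (P.any fun p => E (leaf two fun e => base N S e || e % p == 0)) ||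
  (P.any fun p => E (leaf two fun e => base N S e || e % p != 0)) ||
  (S.any fun q => E (leaf two fun e => base N S e || (e % q.1 != q.2 && e % q.1 != q.1 - q.2))) ||
  (S.any fun q => Nat.ble 2 q.2 && E (leaf two fun e => base N S e || (e % q.1 != 1 && e % q.1 != q.1 - 1)))

theorem Facts.killed (F : Facts K N P S) (hd : DegM two n K) {Q : ℕ → Prop}
    {E : (ℕ → Bool) → Bool} (hE : Cover n Q E) (hQ : Base2 two N S Q) (h : kill two N P S E = true) : False := by
  rw [kill, Bool.or_eq_true, Bool.or_eq_true, Bool.or_eq_true, List.any_eq_true, List.any_eq_true,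
    List.any_eq_true, List.any_eq_true] at h
  rcases h with ((⟨p, hp, h⟩ | ⟨p, hp, h⟩) | ⟨q, hq, h⟩) | ⟨q, hq, h⟩
  · -- all degrees are divisible by `p`
    obtain ⟨g1, g2⟩ := F.prime p hp
    obtain ⟨ψ, e, h1, h2, h3, h4, -, -⟩ := H621.SymDeg.exists_irr_not_dvd F.perfect g1 (by rw [F.card]; exact g2)
    have h5 := F.test' hd hE hQ h h1 h2 (by omega)
    simp only [beq_iff_eq] at h5
    exact h4 (Nat.dvd_of_mod_eq_zero h5)
  · -- all degrees are prime to `p`
    obtain ⟨g1, g2⟩ := F.prime p hp
    obtain ⟨ψ, e, h1, h2, h3⟩ := F.im p g1 (by rw [F.card]; exact g2)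
    have h4 : e ≠ 1 := by
      rintro rfl
      exact g1.one_lt.ne' (Nat.dvd_one.1 h3)
    have h5 := F.test' hd hE hQ h h1 h2 h4
    simp only [bne_iff_ne, ne_eq] at h5
    exact h5 (Nat.mod_eq_zero_of_dvd h3)
  · -- no exceptional character
    obtain ⟨g1, g2, g3, t, R, g4, g5, ⟨D⟩⟩ := F.sc q hq
    obtain ⟨Θ, hΘ⟩ : D.X.Nonempty := by rw [← Finset.card_pos, D.card_X]; exact g4
    have h1 := H417.BlockCount.mod_X' D g2 g3 hΘ
    have h2 : dg Θ ≠ 1 := by
      intro h0
      have h3 : (Θ : K → ℂ) = 1 := by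
        apply H621.SymDeg.eq_one_of_perfect F.perfect Θ.2
        rw [dg_eq, h0, Nat.cast_one]
      have h4 : Θ = D.one := Subtype.ext (by rw [h3, D.coe_one])
      exact Finset.disjoint_left.1 D.disj D.one_mem (h4 ▸ hΘ)
    have h3 := F.test' hd hE hQ h Θ.2 (dg_eq Θ) h2
    simp only [Bool.and_eq_true, bne_iff_ne, ne_eq] at h3
    tauto
  · -- no nontrivial nonexceptional character
    rw [Bool.and_eq_true] at h
    obtain ⟨hq2, h⟩ := h
    have hq2 := Nat.le_of_ble_eq_true hq2
    obtain ⟨g1, g2, g3, t, R, g4, g5, ⟨D⟩⟩ := F.sc q hq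
    obtain ⟨χ, hχ, hne⟩ : ∃ χ ∈ D.NE, χ ≠ D.one := by
      apply Finset.exists_mem_ne
      rw [D.card_NE]; omega
    have h1 := H417.BlockCount.mod_NE' D (by omega) hχ
    have h2 : dg χ ≠ 1 := by
      intro h0
      apply hne
      apply Subtype.ext
      rw [D.coe_one]
      apply H621.SymDeg.eq_one_of_perfect F.perfect χ.2
      rw [dg_eq, h0, Nat.cast_one]
    have h3 := F.test' hd hE hQ h χ.2 (dg_eq χ) h2
    simp only [Bool.and_eq_true, bne_iff_ne, ne_eq] at h3
    tauto

/-- primes dividing the order are at most `n` -/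
theorem Facts.le_n (F : Facts K N P S) (hd : DegM two n K) {p : ℕ} (hp : p ∈ P) : p ≤ n := by
  obtain ⟨g1, g2⟩ := F.prime p hp
  obtain ⟨ψ, e, h1, h2, h3⟩ := F.im p g1 (by rw [F.card]; exact g2)
  obtain ⟨d, h4, h5⟩ := hd.nat h1 h2
  obtain ⟨l, h6, h7⟩ := h4
  have h8 : e ∣ d := by
    rcases h5 with rfl | ⟨-, rfl⟩
    · exact dvd_rfl
    · exact Dvd.intro_left 2 rfl
  have h9 : p ∣ n.factorial := by
    rw [← h7]
    exact Dvd.dvd.mul_right (h3.trans h8) _
  exact (g1.dvd_factorial).1 h9

/-- the bound on `n` -/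
theorem Facts.bound (F : Facts K N P S) (hd : DegM two n K) (hn : 9 ≤ n) (hP : P ≠ []) :
    (n * (n - 3)) ^ 2 < (if two = true then 16 else 4) * N := by
  by_contra hcon
  rw [not_lt] at hcon
  have key : ∀ (ψ : K → ℂ) (e : ℕ), IsIrrCharacter K ψ → ψ 1 = e → e ≠ 1 →
      e = n - 1 ∨ 2 * e = n - 1 := by
    intro ψ e hψ he h1
    obtain ⟨d, h2, h3⟩ := hd.nat hψ he
    have h4 := sq_lt_card hψ he h1
    rw [F.card] at h4
    rcases low_degree hn h2 with h5 | h5 | h5
    · omega
    · omega
    · exfalso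
      rcases h3 with rfl | ⟨rfl, rfl⟩
      · have h6 : (n * (n - 3)) ^ 2 ≤ (2 * d) ^ 2 := Nat.pow_le_pow_left h5 2
        have h7 : (2 * d) ^ 2 = 4 * (d * d) := by ring
        have h8 : 4 * N ≤ (if two = true then 16 else 4) * N := by
          apply Nat.mul_le_mul_right
          split_ifs <;> norm_num
        omega
      · have h6 : (n * (n - 3)) ^ 2 ≤ (2 * (2 * e)) ^ 2 := Nat.pow_le_pow_left h5 2
        have h7 : (2 * (2 * e)) ^ 2 = 16 * (e * e) := by ring
        simp only [if_true] at hcon
        omega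
  obtain ⟨q, hq⟩ := List.exists_mem_of_ne_nil _ hP
  obtain ⟨g1, g2⟩ := F.prime q hq
  obtain ⟨ψ, e, h1, h2, h3, -, h5, -⟩ := H621.SymDeg.exists_irr_not_dvd F.perfect g1 (by rw [F.card]; exact g2)
  obtain ⟨p, hp, hpk⟩ : ∃ p : ℕ, p.Prime ∧ ∀ e : ℕ, e = n - 1 ∨ 2 * e = n - 1 → p ∣ e := by
    by_cases hev : 2 ∣ n - 1
    · obtain ⟨m, hm⟩ := hev
      refine ⟨m.minFac, Nat.minFac_prime (by omega), ?_⟩
      rintro e (he | he)
      · rw [he, hm]; exact (Nat.minFac_dvd m).mul_left 2
      · have : e = m := by omega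
        rw [this]; exact Nat.minFac_dvd m
    · refine ⟨(n - 1).minFac, Nat.minFac_prime (by omega), ?_⟩
      rintro e (he | he)
      · rw [he]; exact Nat.minFac_dvd _
      · exact absurd ⟨e, he.symm⟩ hev
  have h6 := hpk e (key ψ e h1 h2 (by omega))
  obtain ⟨ψ', e', k1, k2, k3, k4, -, -⟩ := H621.SymDeg.exists_irr_not_dvd F.perfect hp (h6.trans h5)
  exact k4 (hpk e' (key ψ' e' k1 k2 (by omega)))

theorem Facts.lt_of_bound (F : Facts K N P S) (hd : DegM two n K) (hn : 9 ≤ n) (hP : P ≠ []) {m : ℕ}
    (hm : (if two = true then 16 else 4) * N ≤ (m * (m - 3)) ^ 2) : n < m := by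
  by_contra hcon
  rw [not_lt] at hcon
  have h1 := F.bound hd hn hP
  have h2 : m * (m - 3) ≤ n * (n - 3) := Nat.mul_le_mul hcon (by omega)
  have h3 := Nat.pow_le_pow_left h2 2
  omega

/-! ### full enumeration -/

/-- all the degrees of `S_n` -/
def fullE (n : ℕ) (chk : ℕ → Bool) : Bool := go (fun _ H => chk (Nat.div n.factorial H)) (n + 1) n 1 [] 1

theorem cover_full (n : ℕ) : Cover n (fun _ => True) (fullE n) := by
  intro chk h d hd _
  exact check_of_isDeg h hd

theorem base2_true (two : Bool) (N : ℕ) (S : List (ℕ × ℕ)) : Base2 two N S fun _ => True :=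
  fun _ h => absurd trivial h

/-- **the check at one `n`, by full enumeration** (for `n ≤ 30`) -/
theorem Facts.kill_full (F : Facts K N P S) (hd : DegM two n K) (h : kill two N P S (fullE n) = true) : False :=
  F.killed hd (cover_full n) (base2_true _ _ _) h

end Cfsg.Agent.H704.DS

private theorem dce_42ab7b15ed01 : _root_.True := by
  try have : _root_.True := by simp only [_root_.Cfsg.Agent.H704.DS.kill.eq_1]
  try have : _root_.True := by simp only [_root_.Cfsg.Agent.H704.DS.badRes.eq_1]
  try have : _root_.True := by simp only [_root_.Cfsg.Agent.H704.DS.leaf.eq_1]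
  exact _root_.True.intro
end

-- part: H705/DS/Tools
section
set_option linter.all false

/-!
# Tools for the sporadic rows of S4906 (helper705)
-/

set_option autoImplicit false

namespace Cfsg.Agent.H705.DS

open Cfsg Cfsg.Agent.H704

/-- A degree of `S_n` divides `n!`. -/
theorem isDeg_dvd {n d : ℕ} (h : IsDeg n d) : d ∣ n.factorial := by
  obtain ⟨l, -, hl⟩ := h
  exact ⟨_, hl.symm⟩

/-- The primes dividing a degree of `S_n` are at most `n`. -/
theorem prime_le {n d p : ℕ} (h : IsDeg n d) (hp : p.Prime) (hd : p ∣ d) : p ≤ n :=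
  (hp.dvd_factorial).1 (hd.trans (isDeg_dvd h))

end Cfsg.Agent.H705.DS
end

-- part: H765/DS/HSMcL
section
prune_inst 0x7f00000000000000000000000000000000000000000000000000000000000000000000000000000000000000000000000000000000000000000000000000000000000000000000000000000000000000003fffffffffffffffffffffffffffbeffbdffffffff
set_option linter.all false
open scoped Cfsg.Agent.FastGrp

/-!
# S4906: the rows `HS` and `McL` (helper765)

The degrees `22`, `77` of `HS` and `22`, `252` of `McL` against the degrees of `S_n`, up to a factor two.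

* `row_hs` : `DegOK n HS` is impossible for `5 ≤ n`;
* `row_mcl` : `DegOK n McL` implies `n = 11` for `5 ≤ n`.
-/

set_option autoImplicit false

namespace Cfsg.Agent.H765.DS.HSMcL

open Cfsg Cfsg.Agent.H704 Cfsg.Agent.Characters.Core
open Cfsg.Agent.Blocks.Basic (irr_one_eq_charDegree)

universe u

/-- transport of a degree -/
theorem exists_deg {H K : Type*} [Group H] [Group K] [Finite H] [Finite K] (e : K ≃* H) {m : ℕ} (χ : IrrCharacter H)
    (hχ : charDegree (χ : H → ℂ) = m) : ∃ ψ : K → ℂ, IsIrrCharacter K ψ ∧ ψ 1 = (m : ℂ) := by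
  refine ⟨(χ : H → ℂ) ∘ e, isIrr_comp (e : K →* H) e.surjective χ.2, ?_⟩
  rw [Function.comp_apply, map_one, irr_one_eq_charDegree χ.2, hχ]

/-- a degree of `S` and the degrees of `S_n` -/
theorem isDeg_of {n m : ℕ} {K : Type u} [Group K] (hd : DegOK n K)
    (h : ∃ ψ : K → ℂ, IsIrrCharacter K ψ ∧ ψ 1 = (m : ℂ)) : ∃ d : ℕ, IsDeg n d ∧ (d = m ∨ d = 2 * m) := by
  obtain ⟨ψ, h1, h2⟩ := h
  obtain ⟨d, h3, h4⟩ := hd ψ h1
  rw [h2] at h4
  refine ⟨d, h3, ?_⟩
  rcases h4 with h4 | h4
  · left
    exact_mod_cast h4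
  · right
    exact_mod_cast h4

theorem hs_22 {K : Type u} [Group K] [Finite K] (h : Spor.IsoHS K) :
    ∃ ψ : K → ℂ, IsIrrCharacter K ψ ∧ ψ 1 = ((22 : ℕ) : ℂ) := by
  obtain ⟨e⟩ := h
  obtain ⟨hs, hc⟩ := H713.Spor.HS.facts
  have hfin := Nat.finite_of_card_ne_zero
    (α := ↥(SporadicRecognition.HSRank.K H713.Spor.HS.V H713.Spor.HS.W)) (by rw [hc]; norm_num)
  obtain ⟨μ, -, hμ⟩ := H713.Spor.HS.exists_22
  have hdeg := H713.Spor.HS.degree_of_lchi hμ
  exact exists_deg (e.trans SporadicRecognition.HSRank.hsEquiv) μ (by omega)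

theorem hs_77 {K : Type u} [Group K] [Finite K] (h : Spor.IsoHS K) :
    ∃ ψ : K → ℂ, IsIrrCharacter K ψ ∧ ψ 1 = ((77 : ℕ) : ℂ) := by
  obtain ⟨e⟩ := h
  obtain ⟨hs, hc⟩ := H713.Spor.HS.facts
  have hfin := Nat.finite_of_card_ne_zero
    (α := ↥(SporadicRecognition.HSRank.K H713.Spor.HS.V H713.Spor.HS.W)) (by rw [hc]; norm_num)
  obtain ⟨μ, hμ⟩ := H713.Spor.HS.exists_77
  exact exists_deg (e.trans SporadicRecognition.HSRank.hsEquiv) μ hμ

theorem mcl_22 {K : Type u} [Group K] [Finite K] (h : Spor.IsoMcL K) :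
    ∃ ψ : K → ℂ, IsIrrCharacter K ψ ∧ ψ 1 = ((22 : ℕ) : ℂ) := by
  obtain ⟨e⟩ := h
  obtain ⟨hs, hc⟩ := H713.Spor.McL.facts
  have hfin := Nat.finite_of_card_ne_zero
    (α := ↥(SporadicRecognition.HSRank.K (-Spor.leechV) Spor.leechU)) (by rw [hc]; norm_num)
  obtain ⟨μ, -, hμ⟩ := H713.Spor.McL.exists_22
  have hdeg := H713.Spor.HS.degree_of_lchi hμ
  exact exists_deg (e.trans H713.Spor.McL.mclEquiv) μ (by omega)

theorem mcl_252 {K : Type u} [Group K] [Finite K] (h : Spor.IsoMcL K) :
    ∃ ψ : K → ℂ, IsIrrCharacter K ψ ∧ ψ 1 = ((252 : ℕ) : ℂ) := by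
  obtain ⟨e⟩ := h
  obtain ⟨hs, hc⟩ := H713.Spor.McL.facts
  have hfin := Nat.finite_of_card_ne_zero
    (α := ↥(SporadicRecognition.HSRank.K (-Spor.leechV) Spor.leechU)) (by rw [hc]; norm_num)
  obtain ⟨μ, hμ⟩ := H713.Spor.McL.exists_252
  exact exists_deg (e.trans H713.Spor.McL.mclEquiv) μ hμ

/-! ### The degrees of `S_n` -/

theorem no22_10 {d : ℕ} (h : IsDeg 10 d) : d ≠ 22 ∧ d ≠ 44 := by
  have := check_of_isDeg (chk := fun d => decide (d ≠ 22 ∧ d ≠ 44)) (by decide +kernel) h
  simpa using this

theorem no77_11 {d : ℕ} (h : IsDeg 11 d) : d ≠ 77 ∧ d ≠ 154 := by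
  have := check_of_isDeg (chk := fun d => decide (d ≠ 77 ∧ d ≠ 154)) (by decide +kernel) h
  simpa using this

theorem no252_23 {d : ℕ} (h : IsDeg 23 d) (hd : ¬ 23 ∣ d) : d ≠ 252 ∧ d ≠ 504 := by
  have := check_of_isDegP (chk := fun d => decide (d ≠ 252 ∧ d ≠ 504)) (n := 23) (E := 0) (r := 23)
    (by norm_num) (by norm_num) (by norm_num) (by decide +kernel) h hd
  simpa using this

/-- the degree `22` -/
theorem of_22 {n : ℕ} (hn : 5 ≤ n) {d : ℕ} (h : IsDeg n d) (hd : d = 22 ∨ d = 2 * 22) : n = 11 ∨ n = 23 ∨ n = 45 := by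
  obtain ⟨s5, s6, s7, s8, s9⟩ := deg_small h
  by_cases h10 : n ≤ 10
  · exfalso
    have h5 : n = 5 ∨ n = 6 ∨ n = 7 ∨ n = 8 ∨ n = 9 ∨ n = 10 := by omega
    rcases h5 with rfl | rfl | rfl | rfl | rfl | rfl
    · have := s5 rfl
      rcases hd with rfl | rfl <;> simp at this
    · have := s6 rfl
      rcases hd with rfl | rfl <;> simp at this
    · have := s7 rfl
      rcases hd with rfl | rfl <;> simp at this
    · have := s8 rfl
      rcases hd with rfl | rfl <;> simp at this
    · have := s9 rfl
      rcases hd with rfl | rfl <;> simp at this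
    · have := no22_10 h
      omega
  · rcases low_degree (by omega) h with h1 | h1 | h1
    · omega
    · omega
    · left
      by_contra hne
      have h2 : 12 * 9 ≤ n * (n - 3) := Nat.mul_le_mul (by omega) (by omega)
      omega

/-- **the row `HS`** -/
theorem row_hs {K : Type u} [Group K] [Finite K] (h : Spor.IsoHS K) {n : ℕ} (hn : 5 ≤ n) (hd : DegOK n K) : False := by
  obtain ⟨d, h1, h2⟩ := isDeg_of hd (hs_22 h)
  obtain ⟨d', h3, h4⟩ := isDeg_of hd (hs_77 h)
  rcases of_22 hn h1 h2 with rfl | rfl | rfl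
  · have := no77_11 h3
    omega
  · rcases low_degree (by norm_num) h3 with h5 | h5 | h5 <;> omega
  · rcases low_degree (by norm_num) h3 with h5 | h5 | h5 <;> omega

/-- **the row `McL`** -/
theorem row_mcl {K : Type u} [Group K] [Finite K] (h : Spor.IsoMcL K) {n : ℕ} (hn : 5 ≤ n) (hd : DegOK n K) :
    n = 11 := by
  obtain ⟨d, h1, h2⟩ := isDeg_of hd (mcl_22 h)
  obtain ⟨d', h3, h4⟩ := isDeg_of hd (mcl_252 h)
  rcases of_22 hn h1 h2 with rfl | rfl | rfl
  · rfl
  · exfalso
    have := no252_23 h3 (by rcases h4 with rfl | rfl <;> norm_num)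
    omega
  · rcases low_degree (by norm_num) h3 with h5 | h5 | h5 <;> omega

end Cfsg.Agent.H765.DS.HSMcL
end
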